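import Mathlib

/-!
# Basic facts on a principal maximal ideal of a one-dimensional domain
-/

set_option autoImplicit false

namespace Groth.Agent.Lib.Helper97.Rigid

noncomputable section

universe u

section Dom

variable {A : Type u} [CommRing A] [IsDomain A] (t : A)

lemma ne_zero_of_dim (hdim : ringKrullDim A = 1) (ht : (Ideal.span {t}).IsMaximal) : t ≠ 0 := by
  rintro rfl
  have h0 : (Ideal.span {(0 : A)}) = ⊥ := by simp
  rw [h0] at ht
  have hf : IsField A := Ring.isField_iff_maximal_bot.mpr ht
  have h1 : ringKrullDim A = 0 := by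
    letI := hf.toField
    exact ringKrullDim_eq_zero_of_field A
  rw [h1] at hdim
  exact zero_ne_one hdim

lemma pow_eq_zero_iff_of_pos_aux (n : ℕ) (h : t ^ n = 0) : t = 0 := by
  by_contra h0
  exact pow_ne_zero n h0 h

lemma pow_notMem_span_pow_succ (h0 : t ≠ 0) (ht : (Ideal.span {t}).IsMaximal) (n : ℕ) :
    t ^ n ∉ Ideal.span {t ^ (n + 1)} := by
  intro h
  rw [Ideal.mem_span_singleton'] at h
  obtain ⟨a, ha⟩ := h
  have h1 : t ^ n * (a * t - 1) = 0 := by
    have h2 : t ^ (n + 1) = t ^ n * t := pow_succ t n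
    rw [h2] at ha
    linear_combination ha
  rcases mul_eq_zero.mp h1 with h2 | h2
  · exact h0 (pow_eq_zero_iff_of_pos_aux t n h2)
  · have h3 : (1 : A) ∈ Ideal.span {t} := by
      rw [Ideal.mem_span_singleton']
      exact ⟨a, by linear_combination h2⟩
    exact ht.ne_top ((Ideal.eq_top_iff_one _).mpr h3)

end Dom

section Res

variable (k : Type u) [Field k] [IsAlgClosed k] {A : Type u} [CommRing A] [Algebra k A]
  [Algebra.FiniteType k A] (m : Ideal A) [hm : m.IsMaximal]

lemma bijective_algebraMap_quotient : Function.Bijective (algebraMap k (A ⧸ m)) := by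
  let _ : Field (A ⧸ m) := Ideal.Quotient.field m
  have _ : Module.Finite k (A ⧸ m) := finite_of_finite_type_of_isJacobsonRing k (A ⧸ m)
  exact IsAlgClosed.algebraMap_bijective_of_isIntegral

end Res

section Flat

variable {A B : Type u} [CommRing A] [IsDomain A] [CommRing B] [Algebra A B] [Module.Flat A B]

lemma eq_zero_of_algebraMap_mul_eq_zero (t : A) (h0 : t ≠ 0) (b : B)
    (h : algebraMap A B t * b = 0) : b = 0 := by
  have h1 : IsSMulRegular B t :=
    Module.Flat.isSMulRegular_of_nonZeroDivisors (mem_nonZeroDivisors_of_ne_zero h0)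
  apply h1
  change t • b = t • 0
  rw [smul_zero, Algebra.smul_def, h]

end Flat

end

end Groth.Agent.Lib.Helper97.Rigid
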