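import Mathlib

/-!
# Extracting a retraction of the cotangent complex from a flat base change

If `Λ` is flat over `k`, `c₀ : Λ → k` is `k`-linear with `c₀ (τ ^ n) = 1`, and `τ ^ n` times the
identity of `I_Λ/I_Λ²` factors through the cotangent complex of the base change to `Λ` of an
extension `P₀` of `B₀` over `k`, then the cotangent complex of `P₀` has a retraction.
-/

set_option autoImplicit false

namespace Groth.Agent.Lib.Helper97.Rigid

open Algebra TensorProduct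

noncomputable section

universe u

attribute [local instance] Algebra.TensorProduct.rightAlgebra

variable {k B₀ : Type u} [CommRing k] [CommRing B₀] [Algebra k B₀] (P₀ : Extension.{u} k B₀)
  (Λ : Type u) [CommRing Λ] [Algebra k Λ] [Module.Flat k Λ]

/-- The `k`-linear map `Λ ⊗ N → N` induced by a functional `c₀` on `Λ`. -/
def coeffMap (c₀ : Λ →ₗ[k] k) : Λ ⊗[k] P₀.Cotangent →ₗ[k] P₀.Cotangent :=
  (TensorProduct.lid k P₀.Cotangent).toLinearMap ∘ₗ c₀.rTensor P₀.Cotangent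

lemma coeffMap_tmul (c₀ : Λ →ₗ[k] k) (l : Λ) (x : P₀.Cotangent) :
    coeffMap P₀ Λ c₀ (l ⊗ₜ x) = c₀ l • x := by
  simp [coeffMap]

lemma smul_tensorCotangentOfFlat_tmul (b : B₀) (l : Λ) (x : P₀.Cotangent) :
    ((1 : Λ) ⊗ₜ[k] b : Λ ⊗[k] B₀) • P₀.tensorCotangentOfFlat Λ (l ⊗ₜ x) =
      P₀.tensorCotangentOfFlat Λ (l ⊗ₜ (b • x)) := by
  rw [Extension.tensorCotangentOfFlat_tmul, Extension.tensorCotangentOfFlat_tmul, map_smul,
    ← algebraMap_smul (Λ ⊗[k] B₀) l, ← algebraMap_smul (Λ ⊗[k] B₀) l,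
    ← algebraMap_smul (Λ ⊗[k] B₀) b, smul_smul, smul_smul, mul_comm]
  rfl

lemma coeffMap_symm_smul (c₀ : Λ →ₗ[k] k) (b : B₀) (w : (P₀.baseChange (T := Λ)).Cotangent) :
    coeffMap P₀ Λ c₀ ((P₀.tensorCotangentOfFlat Λ).symm (((1 : Λ) ⊗ₜ[k] b : Λ ⊗[k] B₀) • w)) =
      b • coeffMap P₀ Λ c₀ ((P₀.tensorCotangentOfFlat Λ).symm w) := by
  obtain ⟨z, rfl⟩ := (P₀.tensorCotangentOfFlat Λ).surjective w
  induction z using TensorProduct.induction_on with
  | zero => simp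
  | tmul l x =>
    rw [smul_tensorCotangentOfFlat_tmul, LinearEquiv.symm_apply_apply,
      LinearEquiv.symm_apply_apply, coeffMap_tmul, coeffMap_tmul, smul_comm]
  | add z₁ z₂ h₁ h₂ =>
    rw [map_add, smul_add, map_add, map_add, h₁, h₂, map_add, map_add, smul_add]

theorem exists_retraction_of_baseChange (τ : Λ) (n : ℕ) (c₀ : Λ →ₗ[k] k) (hc₀ : c₀ (τ ^ n) = 1)
    (ρ : (P₀.baseChange (T := Λ)).CotangentSpace →ₗ[Λ ⊗[k] B₀]
      (P₀.baseChange (T := Λ)).Cotangent)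
    (hρ : ρ ∘ₗ (P₀.baseChange (T := Λ)).cotangentComplex =
      (algebraMap Λ (Λ ⊗[k] B₀) τ) ^ n • LinearMap.id) :
    ∃ l : P₀.CotangentSpace →ₗ[B₀] P₀.Cotangent, l ∘ₗ P₀.cotangentComplex = LinearMap.id := by
  let h₀ := P₀.toBaseChange Λ
  let E := P₀.tensorCotangentOfFlat Λ
  let l : P₀.CotangentSpace →ₗ[B₀] P₀.Cotangent :=
    { toFun := fun x => coeffMap P₀ Λ c₀ (E.symm (ρ (Extension.CotangentSpace.map h₀ x)))
      map_add' := fun x y => by rw [map_add, map_add, map_add, map_add]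
      map_smul' := fun b x => by
        rw [map_smul, ← algebraMap_smul (Λ ⊗[k] B₀) b, map_smul, RingHom.id_apply]
        exact coeffMap_symm_smul P₀ Λ c₀ b _ }
  refine ⟨l, ?_⟩
  ext x
  change coeffMap P₀ Λ c₀ (E.symm (ρ (Extension.CotangentSpace.map h₀ (P₀.cotangentComplex x)))) = x
  rw [Extension.CotangentSpace.map_cotangentComplex]
  have h1 := LinearMap.congr_fun hρ (Extension.Cotangent.map h₀ x)
  rw [LinearMap.comp_apply, LinearMap.smul_apply, LinearMap.id_apply] at h1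
  rw [h1, ← map_pow, algebraMap_smul]
  have h2 : τ ^ n • Extension.Cotangent.map h₀ x = E ((τ ^ n) ⊗ₜ x) :=
    (Extension.tensorCotangentOfFlat_tmul P₀ Λ (τ ^ n) x).symm
  rw [h2, LinearEquiv.symm_apply_apply, coeffMap_tmul, hc₀, one_smul]

end

end Groth.Agent.Lib.Helper97.Rigid
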