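import Mathlib

/-!
# A filtration argument: trivialising an infinitesimal family with a section

`Λ` an Artinian thickening of `k` with `τ`-adic filtration (`τ ^ N = 0`, `Λ/τ = k`), `C` a
`Λ`-algebra which is `τ`-strict, `B₀ = C/τC` and `s : B₀ → C` a `k`-algebra section.  Then
`Λ ⊗[k] B₀ → C` is bijective.
-/

set_option autoImplicit false

namespace Groth.Agent.Lib.Helper97.Rigid

open TensorProduct

noncomputable section

section Filt

variable {Λ : Type*} [CommRing Λ] (τ : Λ) (N : ℕ) {M M' : Type*} [AddCommGroup M]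
  [AddCommGroup M'] [Module Λ M] [Module Λ M'] (f : M →ₗ[Λ] M')

include N in
lemma filt_surjective (hτ : τ ^ N = 0)
    (h : ∀ y : M', ∃ (x : M) (y' : M'), y = f x + τ • y') : Function.Surjective f := by
  have key : ∀ (i : ℕ) (y : M'), ∃ (x : M) (y' : M'), y = f x + τ ^ i • y' := by
    intro i
    induction i with
    | zero => intro y; exact ⟨0, y, by simp⟩
    | succ i ih =>
      intro y
      obtain ⟨x, y', hy⟩ := ih y
      obtain ⟨x', y'', hy'⟩ := h y'
      refine ⟨x + τ ^ i • x', y'', ?_⟩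
      rw [hy, hy', map_add, map_smul, smul_add, smul_smul, ← pow_succ, add_assoc]
  intro y
  obtain ⟨x, y', hy⟩ := key N y
  refine ⟨x, ?_⟩
  rw [hy, hτ, zero_smul, add_zero]

include N in
lemma filt_injective (hτ : τ ^ N = 0)
    (hinj : ∀ x : M, (∃ y' : M', f x = τ • y') → ∃ x' : M, x = τ • x')
    (hstrict : ∀ i < N, ∀ z : M', τ ^ i • z = 0 → ∃ w : M', z = τ • w) :
    Function.Injective f := by
  rw [injective_iff_map_eq_zero]
  intro x hx
  have key : ∀ i ≤ N, ∃ xi : M, x = τ ^ i • xi := by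
    intro i
    induction i with
    | zero => intro _; exact ⟨x, by simp⟩
    | succ i ih =>
      intro hi
      obtain ⟨xi, hxi⟩ := ih (by omega)
      have h1 : τ ^ i • f xi = 0 := by rw [← map_smul, ← hxi, hx]
      obtain ⟨w, hw⟩ := hstrict i (by omega) (f xi) h1
      obtain ⟨x', hx'⟩ := hinj xi ⟨w, hw⟩
      refine ⟨x', ?_⟩
      rw [hxi, hx', smul_smul, ← pow_succ]
  obtain ⟨xN, hxN⟩ := key N le_rfl
  rw [hxN, hτ, zero_smul]

end Filt

section Theta

universe u

variable {k : Type u} [Field k] {Λ C B₀ : Type u} [CommRing Λ] [CommRing C] [CommRing B₀]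
  [Algebra k Λ] [Algebra k C] [Algebra k B₀] [Algebra Λ C] [IsScalarTower k Λ C]

/-- The comparison map `Λ ⊗[k] B₀ → C` attached to a section `s`. -/
def theta (s : B₀ →ₐ[k] C) : Λ ⊗[k] B₀ →ₐ[Λ] C :=
  Algebra.TensorProduct.lift (Algebra.ofId Λ C) s (fun _ _ => Commute.all _ _)

lemma theta_tmul (s : B₀ →ₐ[k] C) (l : Λ) (b : B₀) :
    theta s (l ⊗ₜ b) = algebraMap Λ C l * s b := by
  simp [theta, Algebra.ofId_apply]

lemma rTensor_mulLeft_apply (τ : Λ) (x : Λ ⊗[k] B₀) :
    (LinearMap.mulLeft k τ).rTensor B₀ x = τ • x := by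
  induction x using TensorProduct.induction_on with
  | zero => simp
  | tmul l b => rw [LinearMap.rTensor_tmul, LinearMap.mulLeft_apply, smul_tmul', smul_eq_mul]
  | add x y hx hy => rw [map_add, smul_add, hx, hy]

variable (τ : Λ) (N : ℕ) (ε : Λ →ₐ[k] k) (s : B₀ →ₐ[k] C) (π : C →ₐ[k] B₀)

include N ε π in
theorem theta_bijective (hτ : τ ^ N = 0)
    (hε : ∀ l, ε l = 0 → ∃ m, l = τ * m) (hετ : ε τ = 0)
    (hπs : ∀ b, π (s b) = b)
    (hπker : ∀ c, π c = 0 → ∃ w, c = algebraMap Λ C τ * w)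
    (hπΛ : ∀ l, π (algebraMap Λ C l) = algebraMap k B₀ (ε l))
    (hstrict : ∀ i < N, ∀ z : C, (algebraMap Λ C τ) ^ i * z = 0 →
      ∃ w, z = algebraMap Λ C τ * w) :
    Function.Bijective (theta (Λ := Λ) s) := by
  have hπθ : ∀ x : Λ ⊗[k] B₀,
      π (theta s x) = TensorProduct.lid k B₀ (ε.toLinearMap.rTensor B₀ x) := by
    intro x
    induction x using TensorProduct.induction_on with
    | zero => simp
    | tmul l b =>
      rw [theta_tmul, map_mul, hπΛ, hπs, LinearMap.rTensor_tmul, TensorProduct.lid_tmul,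
        AlgHom.toLinearMap_apply, Algebra.smul_def]
    | add x y hx hy => rw [map_add, map_add, hx, hy, map_add, map_add]
  have hex : Function.Exact (LinearMap.mulLeft k τ) ε.toLinearMap := by
    intro l
    constructor
    · intro hl
      obtain ⟨m, rfl⟩ := hε l hl
      exact ⟨m, rfl⟩
    · rintro ⟨m, rfl⟩
      change ε (τ * m) = 0
      rw [map_mul, hετ, zero_mul]
  have hεsurj : Function.Surjective ε.toLinearMap := fun c =>
    ⟨algebraMap k Λ c, by simp⟩
  have hex' := rTensor_exact B₀ hex hεsurj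
  constructor
  · refine filt_injective τ N (theta (Λ := Λ) s).toLinearMap hτ ?_ ?_
    · rintro x ⟨y', hy'⟩
      have h1 : π (theta s x) = 0 := by
        change theta s x = τ • y' at hy'
        rw [hy', Algebra.smul_def, map_mul, hπΛ, hετ, map_zero, zero_mul]
      rw [hπθ, LinearEquiv.map_eq_zero_iff] at h1
      obtain ⟨x', hx'⟩ := (hex' x).mp h1
      exact ⟨x', by rw [← hx', rTensor_mulLeft_apply]⟩
    · intro i hi z hz
      rw [Algebra.smul_def, map_pow] at hz
      obtain ⟨w, hw⟩ := hstrict i hi z hz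
      exact ⟨w, by rw [hw, Algebra.smul_def]⟩
  · refine filt_surjective τ N (theta (Λ := Λ) s).toLinearMap hτ ?_
    intro y
    have h1 : π (y - s (π y)) = 0 := by rw [map_sub, hπs, sub_self]
    obtain ⟨w, hw⟩ := hπker _ h1
    refine ⟨(1 : Λ) ⊗ₜ π y, w, ?_⟩
    change y = theta s ((1 : Λ) ⊗ₜ π y) + τ • w
    rw [theta_tmul, map_one, one_mul, Algebra.smul_def, ← hw]
    ring

end Theta

end

end Groth.Agent.Lib.Helper97.Rigid
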