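import Groth.Agent.Lib.Helper97.Rigid.Lift
import Groth.Prelude.Def_CotT

/-!
# Order-by-order sections of a one-parameter family with rigid special fibre
-/

set_option autoImplicit false

namespace Groth.Agent.Lib.Helper97.Rigid

noncomputable section

universe u

variable {k : Type u} [CommRing k] {B B₀ : Type u} [CommRing B] [CommRing B₀] [Algebra k B]
  [Algebra k B₀] (g : B)

lemma span_pow_le (N : ℕ) : Ideal.span {g ^ (N + 1)} ≤ Ideal.span {g} := by
  rw [Ideal.span_singleton_le_iff_mem, pow_succ]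
  exact Ideal.mul_mem_left _ _ (Ideal.mem_span_singleton_self g)

lemma span_pow_succ_le (N : ℕ) : Ideal.span {g ^ (N + 1 + 1)} ≤ Ideal.span {g ^ (N + 1)} := by
  rw [Ideal.span_singleton_le_iff_mem]
  have h : g ^ (N + 1 + 1) = g ^ (N + 1) * g := pow_succ g (N + 1)
  rw [h]
  exact (Ideal.span {g ^ (N + 1)}).mul_mem_right g (Ideal.mem_span_singleton_self (g ^ (N + 1)))

/-- Multiplication by `g ^ (N + 1)` as a map `B/(g) → B/(g ^ (N + 2))`. -/
def mulPow (N : ℕ) : (B ⧸ Ideal.span {g}) →ₗ[B] (B ⧸ Ideal.span {g ^ (N + 1 + 1)}) :=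
  Submodule.liftQ (Ideal.span {g})
    ((Submodule.mkQ (Ideal.span {g ^ (N + 1 + 1)})) ∘ₗ LinearMap.mulLeft B (g ^ (N + 1))) (by
      intro x hx
      rw [Ideal.mem_span_singleton'] at hx
      obtain ⟨a, rfl⟩ := hx
      rw [LinearMap.mem_ker, LinearMap.comp_apply, LinearMap.mulLeft_apply, Submodule.mkQ_apply,
        Submodule.Quotient.mk_eq_zero]
      rw [Ideal.mem_span_singleton']
      exact ⟨a, by ring⟩)

lemma mulPow_mk (N : ℕ) (x : B) :
    mulPow g N (Ideal.Quotient.mk (Ideal.span {g}) x) =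
      Ideal.Quotient.mk (Ideal.span {g ^ (N + 1 + 1)}) (g ^ (N + 1) * x) := rfl

variable {g}

theorem exists_section (hg : ∀ b : B, g * b = 0 → b = 0)
    (e : (B ⧸ Ideal.span {g}) ≃ₐ[k] B₀)
    (hT : Subsingleton (CotT.T1 (CotT.canon k B₀) B₀)) :
    ∀ N : ℕ, ∃ s : B₀ →ₐ[k] B ⧸ Ideal.span {g ^ (N + 1)},
      ∀ b₀, Ideal.Quotient.factorₐ k (span_pow_le g N) (s b₀) = e.symm b₀ := by
  have hgpow : ∀ (n : ℕ) (b : B), g ^ n * b = 0 → b = 0 := by
    intro n
    induction n with
    | zero => intro b hb; simpa using hb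
    | succ n ih =>
      intro b hb
      apply ih
      apply hg
      rw [← mul_assoc, ← pow_succ']
      exact hb
  intro N
  induction N with
  | zero =>
    have h : Ideal.span {g} = Ideal.span {g ^ (0 + 1)} := by rw [zero_add, pow_one]
    refine ⟨(Ideal.quotientEquivAlgOfEq k h).toAlgHom.comp e.symm.toAlgHom, fun b₀ => ?_⟩
    obtain ⟨x, hx⟩ := Ideal.Quotient.mk_surjective (e.symm b₀)
    change Ideal.Quotient.factorₐ k (span_pow_le g 0)
      (Ideal.quotientEquivAlgOfEq k h (e.symm b₀)) = e.symm b₀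
    rw [← hx]
    rfl
  | succ N ih =>
    obtain ⟨s, hs⟩ := ih
    let p : (B ⧸ Ideal.span {g ^ (N + 1 + 1)}) →ₐ[k] (B ⧸ Ideal.span {g ^ (N + 1)}) :=
      Ideal.Quotient.factorₐ k (span_pow_succ_le g N)
    have hp : Function.Surjective p := by
      intro y
      obtain ⟨x, rfl⟩ := Ideal.Quotient.mk_surjective y
      exact ⟨Ideal.Quotient.mk _ x, rfl⟩
    let j : B₀ →+ (B ⧸ Ideal.span {g ^ (N + 1 + 1)}) :=
      (mulPow g N).toAddMonoidHom.comp e.symm.toLinearMap.toAddMonoidHom
    have hjdef : ∀ (m : B₀) (x : B), e.symm m = Ideal.Quotient.mk _ x →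
        j m = Ideal.Quotient.mk _ (g ^ (N + 1) * x) := by
      intro m x hx
      change mulPow g N (e.symm m) = _
      rw [hx, mulPow_mk]
    have hjinj : Function.Injective j := by
      rw [injective_iff_map_eq_zero]
      intro m hm
      obtain ⟨x, hx⟩ := Ideal.Quotient.mk_surjective (e.symm m)
      rw [hjdef m x hx.symm, Ideal.Quotient.eq_zero_iff_mem, Ideal.mem_span_singleton'] at hm
      obtain ⟨a, ha⟩ := hm
      have h1 : g ^ (N + 1) * (x - a * g) = 0 := by
        rw [mul_sub, ← ha]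
        ring
      have h2 : x = a * g := sub_eq_zero.mp (hgpow _ _ h1)
      have h3 : e.symm m = 0 := by
        rw [← hx, Ideal.Quotient.eq_zero_iff_mem, h2]
        exact Ideal.mul_mem_left _ _ (Ideal.mem_span_singleton_self g)
      exact (EmbeddingLike.map_eq_zero_iff (f := e.symm)).mp h3
    have hj0 : ∀ m, p (j m) = 0 := by
      intro m
      obtain ⟨x, hx⟩ := Ideal.Quotient.mk_surjective (e.symm m)
      rw [hjdef m x hx.symm]
      change Ideal.Quotient.mk (Ideal.span {g ^ (N + 1)}) (g ^ (N + 1) * x) = 0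
      rw [Ideal.Quotient.eq_zero_iff_mem]
      exact Ideal.mul_mem_right _ _ (Ideal.mem_span_singleton_self _)
    have hj1 : ∀ c, p c = 0 → ∃ m, j m = c := by
      intro c hc
      obtain ⟨y, rfl⟩ := Ideal.Quotient.mk_surjective c
      change Ideal.Quotient.mk (Ideal.span {g ^ (N + 1)}) y = 0 at hc
      rw [Ideal.Quotient.eq_zero_iff_mem, Ideal.mem_span_singleton'] at hc
      obtain ⟨a, rfl⟩ := hc
      refine ⟨e (Ideal.Quotient.mk _ a), ?_⟩
      rw [hjdef _ a (e.symm_apply_apply _), mul_comm]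
    have hj2 : ∀ (c : B ⧸ Ideal.span {g ^ (N + 1 + 1)}) (b m : B₀), p c = s b →
        c * j m = j (b • m) := by
      intro c b m hc
      obtain ⟨y, rfl⟩ := Ideal.Quotient.mk_surjective c
      obtain ⟨x, hx⟩ := Ideal.Quotient.mk_surjective (e.symm m)
      have hb : e.symm b = Ideal.Quotient.mk _ y := by
        rw [← hs b, ← hc]
        rfl
      have hbm : e.symm (b • m) = Ideal.Quotient.mk _ (y * x) := by
        rw [smul_eq_mul, map_mul, hb, ← hx, map_mul]
      rw [hjdef m x hx.symm, hjdef (b • m) (y * x) hbm, ← map_mul]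
      congr 1
      ring
    have hj3 : ∀ m m', j m * j m' = 0 := by
      intro m m'
      obtain ⟨x, hx⟩ := Ideal.Quotient.mk_surjective (e.symm m)
      obtain ⟨x', hx'⟩ := Ideal.Quotient.mk_surjective (e.symm m')
      rw [hjdef m x hx.symm, hjdef m' x' hx'.symm, ← map_mul, Ideal.Quotient.eq_zero_iff_mem,
        Ideal.mem_span_singleton']
      exact ⟨g ^ N * x * x', by ring⟩
    obtain ⟨s', hs'⟩ := exists_lift_of_subsingleton_T1 (CotT.canon k B₀) p hp s B₀ hT j hjinj hj0
      hj1 hj2 hj3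
    refine ⟨s', fun b₀ => ?_⟩
    rw [← hs b₀, ← hs' b₀]
    obtain ⟨y, hy⟩ := Ideal.Quotient.mk_surjective (s' b₀)
    rw [← hy]
    rfl

end

end Groth.Agent.Lib.Helper97.Rigid
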