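import Groth.Agent.Lib.Helper97.Rigid.Basic
import Groth.Agent.Lib.Helper97.Rigid.Sections
import Groth.Agent.Lib.Helper97.Rigid.FiltIso

/-!
# A flat one-parameter family with rigid special fibre is trivial to every finite order
-/

set_option autoImplicit false

namespace Groth.Agent.Lib.Helper97.Rigid

open TensorProduct

noncomputable section

universe u

section Alg

variable {A B : Type u} [CommRing A] [CommRing B] [Algebra A B] (t : A) (n : ℕ)

/-- The map `A/(t^(n+1)) → B/(t^(n+1))`. -/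
def quotMap : (A ⧸ Ideal.span {t ^ (n + 1)}) →+*
    (B ⧸ Ideal.span {(algebraMap A B t) ^ (n + 1)}) :=
  Ideal.quotientMap _ (algebraMap A B) (by
    rw [Ideal.span_singleton_le_iff_mem, Ideal.mem_comap, map_pow]
    exact Ideal.mem_span_singleton_self _)

/-- `B/(t^(n+1))` as an algebra over `A/(t^(n+1))`. -/
@[reducible] def quotAlgebra : Algebra (A ⧸ Ideal.span {t ^ (n + 1)})
    (B ⧸ Ideal.span {(algebraMap A B t) ^ (n + 1)}) := (quotMap t n).toAlgebra

end Alg

attribute [local instance] quotAlgebra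

section Main

variable {k : Type u} [Field k] [IsAlgClosed k] {B₀ : Type u} [CommRing B₀] [Algebra k B₀]
  {A B : Type u} [CommRing A] [CommRing B] [IsDomain A] [Algebra k A] [Algebra.FiniteType k A]
  [Algebra A B] [Module.Flat A B] [Algebra k B] [IsScalarTower k A B]

theorem exists_trivialization (hdim : ringKrullDim A = 1) (t : A)
    (ht : (Ideal.span {t}).IsMaximal)
    (e : (B ⧸ Ideal.span {algebraMap A B t}) ≃ₐ[k] B₀)
    (hT : Subsingleton (CotT.T1 (CotT.canon k B₀) B₀)) (n : ℕ) :
    ∃ σ : B →ₐ[A] (A ⧸ Ideal.span {t ^ (n + 1)}) ⊗[k] B₀, Function.Surjective σ ∧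
      ∀ b, σ b = 0 → ∃ a, b = (algebraMap A B t) ^ (n + 1) * a := by
  have h0 : t ≠ 0 := ne_zero_of_dim t hdim ht
  have hg : ∀ b : B, algebraMap A B t * b = 0 → b = 0 :=
    eq_zero_of_algebraMap_mul_eq_zero t h0
  have hgpow : ∀ (i : ℕ) (b : B), (algebraMap A B t) ^ i * b = 0 → b = 0 := by
    intro i
    induction i with
    | zero => intro b hb; simpa using hb
    | succ i ih =>
      intro b hb
      apply ih
      apply hg
      rw [← mul_assoc, ← pow_succ']
      exact hb
  obtain ⟨s, hs⟩ := exists_section hg e hT n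
  have _ : IsScalarTower k (A ⧸ Ideal.span {t ^ (n + 1)})
      (B ⧸ Ideal.span {(algebraMap A B t) ^ (n + 1)}) :=
    IsScalarTower.of_algebraMap_eq fun c => by
      change Ideal.Quotient.mk _ (algebraMap k B c) =
        Ideal.Quotient.mk _ (algebraMap A B (algebraMap k A c))
      rw [← IsScalarTower.algebraMap_apply]
  have _ : IsScalarTower A (A ⧸ Ideal.span {t ^ (n + 1)})
      (B ⧸ Ideal.span {(algebraMap A B t) ^ (n + 1)}) :=
    IsScalarTower.of_algebraMap_eq fun c => rfl
  have hmk : ∀ a : A, algebraMap (A ⧸ Ideal.span {t ^ (n + 1)})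
      (B ⧸ Ideal.span {(algebraMap A B t) ^ (n + 1)}) (Ideal.Quotient.mk _ a) =
      Ideal.Quotient.mk _ (algebraMap A B a) := fun a => rfl
  let π : (B ⧸ Ideal.span {(algebraMap A B t) ^ (n + 1)}) →ₐ[k] B₀ :=
    e.toAlgHom.comp (Ideal.Quotient.factorₐ k (span_pow_le (algebraMap A B t) n))
  have hπmk : ∀ b : B, π (Ideal.Quotient.mk _ b) = e (Ideal.Quotient.mk _ b) := fun b => rfl
  have hbij : Function.Bijective (algebraMap k (A ⧸ Ideal.span {t})) :=
    bijective_algebraMap_quotient k (Ideal.span {t})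
  let E : k ≃ₐ[k] (A ⧸ Ideal.span {t}) := AlgEquiv.ofBijective (Algebra.ofId k _) hbij
  let ε : (A ⧸ Ideal.span {t ^ (n + 1)}) →ₐ[k] k :=
    E.symm.toAlgHom.comp (Ideal.Quotient.factorₐ k (span_pow_le t n))
  have hεmk : ∀ a : A, ε (Ideal.Quotient.mk _ a) = E.symm (Ideal.Quotient.mk _ a) := fun a => rfl
  have hEε : ∀ a : A, Ideal.Quotient.mk (Ideal.span {t}) a =
      algebraMap k (A ⧸ Ideal.span {t}) (ε (Ideal.Quotient.mk _ a)) := by
    intro a
    rw [hεmk]
    exact (E.apply_symm_apply _).symm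
  have hbijθ := theta_bijective (Λ := A ⧸ Ideal.span {t ^ (n + 1)})
    (Ideal.Quotient.mk _ t) (n + 1) ε s π
    (by rw [← map_pow]; exact Ideal.Quotient.eq_zero_iff_mem.mpr (Ideal.mem_span_singleton_self _))
    (by
      intro l hl
      obtain ⟨a, rfl⟩ := Ideal.Quotient.mk_surjective l
      rw [hεmk, EmbeddingLike.map_eq_zero_iff, Ideal.Quotient.eq_zero_iff_mem,
        Ideal.mem_span_singleton'] at hl
      obtain ⟨a', rfl⟩ := hl
      exact ⟨Ideal.Quotient.mk _ a', by rw [← map_mul, mul_comm]⟩)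
    (by
      rw [hεmk, EmbeddingLike.map_eq_zero_iff, Ideal.Quotient.eq_zero_iff_mem]
      exact Ideal.mem_span_singleton_self _)
    (by
      intro b
      change e (Ideal.Quotient.factorₐ k (span_pow_le (algebraMap A B t) n) (s b)) = b
      rw [hs, e.apply_symm_apply])
    (by
      intro c hc
      obtain ⟨b, rfl⟩ := Ideal.Quotient.mk_surjective c
      rw [hπmk, EmbeddingLike.map_eq_zero_iff, Ideal.Quotient.eq_zero_iff_mem,
        Ideal.mem_span_singleton'] at hc
      obtain ⟨a', rfl⟩ := hc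
      exact ⟨Ideal.Quotient.mk _ a', by rw [hmk, ← map_mul, mul_comm]⟩)
    (by
      intro l
      obtain ⟨a, rfl⟩ := Ideal.Quotient.mk_surjective l
      rw [hmk, hπmk]
      have h1 : Ideal.Quotient.mk (Ideal.span {algebraMap A B t}) (algebraMap A B a) =
          algebraMap k (B ⧸ Ideal.span {algebraMap A B t}) (ε (Ideal.Quotient.mk _ a)) := by
        have h2 := hEε a
        set c := ε (Ideal.Quotient.mk _ a) with hc
        have h3 : a - algebraMap k A c ∈ Ideal.span {t} := by
          rw [← Ideal.Quotient.eq_zero_iff_mem, map_sub, h2]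
          exact sub_self _
        rw [Ideal.mem_span_singleton'] at h3
        obtain ⟨a', ha'⟩ := h3
        have h4 : algebraMap A B a - algebraMap k B c ∈ Ideal.span {algebraMap A B t} := by
          rw [Ideal.mem_span_singleton']
          refine ⟨algebraMap A B a', ?_⟩
          rw [← map_mul, ha', map_sub, ← IsScalarTower.algebraMap_apply]
        have h5 := Ideal.Quotient.eq_zero_iff_mem.mpr h4
        rw [map_sub, sub_eq_zero] at h5
        rw [h5]
        rfl
      rw [h1, e.commutes])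
    (by
      intro i hi z hz
      obtain ⟨b, rfl⟩ := Ideal.Quotient.mk_surjective z
      rw [hmk] at hz
      have hz' : Ideal.Quotient.mk (Ideal.span {(algebraMap A B t) ^ (n + 1)})
          ((algebraMap A B t) ^ i * b) = 0 := by
        rw [map_mul, map_pow]
        exact hz
      rw [Ideal.Quotient.eq_zero_iff_mem, Ideal.mem_span_singleton'] at hz'
      obtain ⟨a', ha'⟩ := hz'
      have h1 : (algebraMap A B t) ^ i * (b - algebraMap A B t * ((algebraMap A B t) ^ (n - i) * a'))
          = 0 := by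
        have h2 : (algebraMap A B t) ^ (n + 1) =
            (algebraMap A B t) ^ i * (algebraMap A B t * (algebraMap A B t) ^ (n - i)) := by
          rw [← pow_succ', ← pow_add]
          congr 1
          omega
        rw [mul_sub, ← ha', h2]
        ring
      have h3 := sub_eq_zero.mp (hgpow i _ h1)
      exact ⟨Ideal.Quotient.mk _ ((algebraMap A B t) ^ (n - i) * a'), by
        rw [hmk, ← map_mul, ← h3]⟩)
  let Θ : ((A ⧸ Ideal.span {t ^ (n + 1)}) ⊗[k] B₀) ≃ₐ[A ⧸ Ideal.span {t ^ (n + 1)}]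
      (B ⧸ Ideal.span {(algebraMap A B t) ^ (n + 1)}) := AlgEquiv.ofBijective (theta s) hbijθ
  let σ : B →ₐ[A] (A ⧸ Ideal.span {t ^ (n + 1)}) ⊗[k] B₀ :=
    (Θ.symm.toAlgHom.restrictScalars A).comp
      (Ideal.Quotient.mkₐ A (Ideal.span {(algebraMap A B t) ^ (n + 1)}))
  have hσ : ∀ b, σ b = Θ.symm (Ideal.Quotient.mk _ b) := fun b => rfl
  refine ⟨σ, ?_, ?_⟩
  · intro r
    obtain ⟨b, hb⟩ := Ideal.Quotient.mk_surjective (Θ r)
    refine ⟨b, ?_⟩
    rw [hσ, hb, Θ.symm_apply_apply]
  · intro b hb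
    rw [hσ, EmbeddingLike.map_eq_zero_iff, Ideal.Quotient.eq_zero_iff_mem,
      Ideal.mem_span_singleton'] at hb
    obtain ⟨a, ha⟩ := hb
    exact ⟨a, by rw [← ha, mul_comm]⟩

end Main

end

end Groth.Agent.Lib.Helper97.Rigid
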