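import Groth.Prelude.Def_CotT
import Mathlib

/-!
# Lifting algebra maps along square-zero surjections when `T¹` vanishes
-/

set_option autoImplicit false

namespace Groth.Agent.Lib.Helper97.Rigid

open TensorProduct

noncomputable section

section Der

variable {k : Type*} {A : Type*} {ι σ : Type*} [CommRing k] [CommRing A] [Algebra k A]
variable (P : Algebra.Presentation k A ι σ)
variable (M : Type*) [AddCommGroup M] [Module A M] [Module P.toExtension.Ring M]
  [IsScalarTower P.toExtension.Ring A M]

/-- If `T¹(P, M) = 0`, every linear map on the free module of the relations vanishing on the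
relation module comes from a `k`-derivation of the polynomial ring. -/
theorem exists_derivation_of_subsingleton_T1' (h : Subsingleton (CotT.T1 P M))
    (ψK : CotT.relMod P →ₗ[P.toExtension.Ring] M) (h0 : ∀ a ∈ CotT.relKer P, ψK a = 0) :
    ∃ D : P.toExtension.Ring →+ M, (∀ x y, D (x * y) = x • D y + y • D x) ∧
      (∀ c : k, D (algebraMap k P.toExtension.Ring c) = 0) ∧
      ∀ a, D (CotT.jmap P a) = ψK a := by
  let c : CotT.L1 P →ₗ[A] M := LinearMap.liftBaseChange A ψK
  have hc : c ∈ CotT.cocycles1 P M := by
    rw [LinearMap.mem_ker, CotT.d2Star_apply]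
    refine Submodule.linearMap_qext _ ?_
    rw [LinearMap.comp_assoc, CotT.d2_comp_mkQ, LinearMap.zero_comp]
    refine TensorProduct.AlgebraTensorModule.ext fun b q => ?_
    rw [LinearMap.comp_apply, LinearMap.baseChange_tmul, LinearMap.zero_apply]
    refine (LinearMap.liftBaseChange_tmul A ψK b _).trans ?_
    rw [Submodule.subtype_apply, h0 _ q.2, smul_zero]
  have h1 : (Submodule.Quotient.mk (⟨c, hc⟩ : CotT.cocycles1 P M) : CotT.T1 P M) = 0 :=
    Subsingleton.elim _ _
  rw [Submodule.Quotient.mk_eq_zero] at h1
  obtain ⟨ψ, hψ⟩ := h1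
  have hψ' : ψ ∘ₗ CotT.d1 P = c := hψ
  refine ⟨{ toFun := fun x => ψ ((1 : A) ⊗ₜ KaehlerDifferential.D k P.toExtension.Ring x)
            map_zero' := by rw [map_zero, TensorProduct.tmul_zero, map_zero]
            map_add' := fun x y => by rw [map_add, TensorProduct.tmul_add, map_add] }, ?_, ?_, ?_⟩
  · intro x y
    change ψ ((1 : A) ⊗ₜ KaehlerDifferential.D k P.toExtension.Ring (x * y)) =
      x • ψ ((1 : A) ⊗ₜ KaehlerDifferential.D k P.toExtension.Ring y) +
      y • ψ ((1 : A) ⊗ₜ KaehlerDifferential.D k P.toExtension.Ring x)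
    rw [Derivation.leibniz, TensorProduct.tmul_add, map_add, TensorProduct.tmul_smul,
      TensorProduct.tmul_smul, ← algebraMap_smul A x, ← algebraMap_smul A y, map_smul, map_smul,
      algebraMap_smul, algebraMap_smul]
  · intro c'
    change ψ ((1 : A) ⊗ₜ KaehlerDifferential.D k P.toExtension.Ring
      (algebraMap k P.toExtension.Ring c')) = 0
    rw [Derivation.map_algebraMap, TensorProduct.tmul_zero, map_zero]
  · intro a
    change ψ ((1 : A) ⊗ₜ KaehlerDifferential.D k P.toExtension.Ring (CotT.jmap P a)) = ψK a
    have h2 : CotT.d1 P ((1 : A) ⊗ₜ a) =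
        (1 : A) ⊗ₜ KaehlerDifferential.D k P.toExtension.Ring (CotT.jmap P a) := by
      rw [CotT.d1_tmul, one_smul]
    rw [← h2, ← LinearMap.comp_apply, hψ']
    exact (LinearMap.liftBaseChange_tmul A ψK 1 a).trans (one_smul A _)

end Der

section Lift

variable {k : Type*} {B₀ : Type*} {ι σ : Type*} [CommRing k] [CommRing B₀] [Algebra k B₀]
variable (P : Algebra.Presentation k B₀ ι σ)
variable {C C' : Type*} [CommRing C] [CommRing C'] [Algebra k C] [Algebra k C']

/-- **Lifting lemma**: if `T¹(P, M) = 0` and the kernel of the surjection `p : C → C'` is a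
square-zero ideal isomorphic (through `j`) to `M`, every algebra map `B₀ → C'` lifts to `C`. -/
theorem exists_lift_of_subsingleton_T1 (p : C →ₐ[k] C') (hp : Function.Surjective p)
    (s : B₀ →ₐ[k] C') (M : Type*) [AddCommGroup M] [Module B₀ M]
    (hT : Subsingleton (CotT.T1 P M)) (j : M →+ C) (hjinj : Function.Injective j)
    (hj0 : ∀ m, p (j m) = 0) (hj1 : ∀ c, p c = 0 → ∃ m, j m = c)
    (hj2 : ∀ (c : C) (b : B₀) (m : M), p c = s b → c * j m = j (b • m))
    (hj3 : ∀ m m', j m * j m' = 0) :
    ∃ s' : B₀ →ₐ[k] C, ∀ b, p (s' b) = s b := by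
  let R := P.toExtension.Ring
  let π : R →ₐ[k] B₀ := IsScalarTower.toAlgHom k R B₀
  have hπ : Function.Surjective π := P.toExtension.algebraMap_surjective
  let _ : Module R M := Module.compHom M (algebraMap R B₀)
  have _ : IsScalarTower R B₀ M := IsScalarTower.of_compHom R B₀ M
  have hsmul : ∀ (x : R) (m : M), x • m = algebraMap R B₀ x • m := fun _ _ => rfl
  -- lift the variables
  choose cv hcv using fun i : ι => hp (s (P.val i))
  let φ : R →ₐ[k] C := MvPolynomial.aeval cv
  have hpφ : ∀ x, p (φ x) = s (π x) := by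
    intro x
    have : p.comp φ = s.comp π := by
      refine MvPolynomial.algHom_ext fun i => ?_
      have hX : algebraMap P.toGenerators.Ring B₀ (MvPolynomial.X i) = P.val i := by
        rw [P.toGenerators.algebraMap_apply, MvPolynomial.aeval_X]
      change p (MvPolynomial.aeval cv (MvPolynomial.X i)) =
        s (algebraMap P.toGenerators.Ring B₀ (MvPolynomial.X i))
      rw [MvPolynomial.aeval_X, hcv, hX]
    exact AlgHom.congr_fun this x
  have hφj : ∀ (x : R) (m : M), φ x * j m = j (x • m) := fun x m =>
    hj2 (φ x) (π x) m (hpφ x)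
  -- the images of the relations lie in the kernel of `p`
  have hrel : ∀ t : σ, ∃ m, j m = φ (CotT.rel P t) := by
    intro t
    apply hj1
    rw [hpφ]
    have : π (CotT.rel P t) = 0 := CotT.algebraMap_rel P t
    rw [this, map_zero]
  choose mv hmv using hrel
  let ψK : CotT.relMod P →ₗ[R] M := Finsupp.linearCombination R mv
  have hψK : ∀ a : CotT.relMod P, j (ψK a) = φ (CotT.jmap P a) := by
    intro a
    induction a using Finsupp.induction_linear with
    | zero => simp
    | add a b ha hb => rw [map_add, map_add, ha, hb, map_add, map_add]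
    | single t x =>
      change j (Finsupp.linearCombination R mv (Finsupp.single t x)) = _
      rw [Finsupp.linearCombination_single, CotT.jmap_single, ← hφj, hmv, map_mul]
  have h0 : ∀ a ∈ CotT.relKer P, ψK a = 0 := by
    intro a ha
    apply hjinj
    rw [hψK, map_zero]
    have : CotT.jmap P a = 0 := ha
    rw [this, map_zero]
  obtain ⟨D, hD1, hD2, hD3⟩ := exists_derivation_of_subsingleton_T1' P M hT ψK h0
  have hD0 : D 1 = 0 := by
    have := hD1 1 1
    rw [mul_one, one_smul] at this
    have h2 : D 1 + D 1 = D 1 + 0 := by rw [add_zero]; exact this.symm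
    exact add_left_cancel h2
  -- the corrected map
  let s'' : R →ₐ[k] C :=
    { toFun := fun x => φ x - j (D x)
      map_one' := by rw [map_one, hD0, map_zero, sub_zero]
      map_mul' := fun x y => by
        have h1 : φ (x * y) = φ x * φ y := map_mul φ x y
        have h2 : j (D (x * y)) = φ x * j (D y) + φ y * j (D x) := by
          rw [hD1, map_add, ← hφj, ← hφj]
        have h3 := hj3 (D x) (D y)
        change φ (x * y) - j (D (x * y)) = (φ x - j (D x)) * (φ y - j (D y))
        rw [h1, h2]
        linear_combination (-1 : C) * h3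
      map_zero' := by rw [map_zero, map_zero, map_zero, sub_zero]
      map_add' := fun x y => by
        rw [map_add, map_add, map_add]
        ring
      commutes' := fun c => by
        change φ (algebraMap k R c) - j (D (algebraMap k R c)) = _
        rw [hD2, map_zero, sub_zero, φ.commutes] }
  have hs'' : ∀ x, s'' x = φ x - j (D x) := fun x => rfl
  have hker : RingHom.ker (π : R →+* B₀) ≤ RingHom.ker (s'' : R →+* C) := by
    intro x hx
    have hx' : x ∈ LinearMap.range (CotT.jmap P) := by
      rw [CotT.range_jmap]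
      exact hx
    obtain ⟨a, rfl⟩ := hx'
    rw [RingHom.mem_ker]
    change s'' (CotT.jmap P a) = 0
    rw [hs'', hD3, hψK, sub_self]
  refine ⟨AlgHom.liftOfSurjective π hπ s'' hker, fun b => ?_⟩
  obtain ⟨x, rfl⟩ := hπ b
  rw [AlgHom.liftOfSurjective_apply, hs'', map_sub, hj0, sub_zero, hpφ]

end Lift

end

end Groth.Agent.Lib.Helper97.Rigid
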