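import Groth.Agent.Lib.Helper97.CotT2.SmoothAway

/-!
# Transferring "`g ^ n` times the identity factors through the cotangent complex"

`L1(n)`: there is `ρ` with `ρ ∘ d = g ^ n • id` on `I/I²`.  We transfer this property between
extensions of the same algebra, and along a base change that is surjective on kernels.
-/

set_option autoImplicit false

namespace Groth.Agent.Lib.Helper97.Rigid

open Algebra CotT2

noncomputable section

universe u

section SameBase

variable {A B : Type u} [CommRing A] [CommRing B] [Algebra A B] (g : B)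

theorem exists_comp_eq_of_hom {Q Q' : Extension A B} (f : Q.Hom Q') (f' : Q'.Hom Q) (n : ℕ)
    (ρ : Q.CotangentSpace →ₗ[B] Q.Cotangent)
    (hρ : ρ ∘ₗ Q.cotangentComplex = g ^ n • LinearMap.id) :
    ∃ ρ' : Q'.CotangentSpace →ₗ[B] Q'.Cotangent,
      ρ' ∘ₗ Q'.cotangentComplex = g ^ n • LinearMap.id := by
  let y : N Q' Q'.Cotangent := Submodule.Quotient.mk LinearMap.id
  have h1 : g ^ n • y = 0 := by
    have h2 := pow_smul_N_eq_zero g Q n ρ hρ Q'.Cotangent (equivN f f' y)
    rw [← map_smul, LinearEquiv.map_eq_zero_iff] at h2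
    exact h2
  rw [← Submodule.Quotient.mk_smul, Submodule.Quotient.mk_eq_zero] at h1
  obtain ⟨ρ', hρ'⟩ := h1
  exact ⟨ρ', hρ'⟩

end SameBase

section CrossBase

variable {A B Λ R : Type u} [CommRing A] [CommRing B] [CommRing Λ] [CommRing R]
  [Algebra A B] [Algebra Λ R] [Algebra A Λ] [Algebra B R] [Algebra A R]
  [IsScalarTower A Λ R] [IsScalarTower A B R]
  {ι : Type*} (G : Generators A B ι) (G' : Generators Λ R ι)

theorem exists_comp_eq_of_generators (hval : ∀ i, G'.val i = algebraMap B R (G.val i))
    (hker : ∀ x' ∈ G'.ker, ∃ x ∈ G.ker, MvPolynomial.map (algebraMap A Λ) x = x')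
    (g : B) (n : ℕ) (ρ : G.toExtension.CotangentSpace →ₗ[B] G.toExtension.Cotangent)
    (hρ : ρ ∘ₗ G.toExtension.cotangentComplex = g ^ n • LinearMap.id) :
    ∃ ρ' : G'.toExtension.CotangentSpace →ₗ[R] G'.toExtension.Cotangent,
      ρ' ∘ₗ G'.toExtension.cotangentComplex = (algebraMap B R g) ^ n • LinearMap.id := by
  let f : G.Hom G' :=
    { val := fun i => MvPolynomial.X i
      aeval_val := fun i => by rw [MvPolynomial.aeval_X, hval] }
  let F : G.toExtension.Hom G'.toExtension := f.toExtensionHom
  have hF : ∀ x : MvPolynomial ι A, F.toRingHom x = MvPolynomial.map (algebraMap A Λ) x := by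
    intro x
    change MvPolynomial.aeval (fun i => (MvPolynomial.X i : MvPolynomial ι Λ)) x = _
    induction x using MvPolynomial.induction_on with
    | C a => rw [MvPolynomial.aeval_C, MvPolynomial.map_C, MvPolynomial.algebraMap_apply]
    | add p q hp hq => rw [map_add, map_add, hp, hq]
    | mul_X p i hp => rw [map_mul, map_mul, hp, MvPolynomial.aeval_X, MvPolynomial.map_X]
  let b := G.cotangentSpaceBasis
  let b' := G'.cotangentSpaceBasis
  let ρ' : G'.toExtension.CotangentSpace →ₗ[R] G'.toExtension.Cotangent :=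
    b'.constr R (fun i => Extension.Cotangent.map F (ρ (b i)))
  have hb : ∀ i, Extension.CotangentSpace.map F (b i) = b' i := by
    intro i
    classical
    apply b'.repr.injective
    ext j
    have h := Generators.repr_CotangentSpaceMap f i j
    change b'.repr (Extension.CotangentSpace.map F (b i)) j = _ at h
    rw [h, Module.Basis.repr_self, MvPolynomial.pderiv_X, Finsupp.single_apply, Pi.single_apply]
    by_cases hij : i = j
    · subst hij
      simp
    · rw [if_neg hij, if_neg hij, map_zero]
  have h1 : (ρ'.restrictScalars B) ∘ₗ Extension.CotangentSpace.map F =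
      Extension.Cotangent.map F ∘ₗ ρ := by
    refine b.ext fun i => ?_
    rw [LinearMap.comp_apply, LinearMap.comp_apply, LinearMap.restrictScalars_apply, hb]
    exact b'.constr_basis R _ i
  have hsurj : Function.Surjective (Extension.Cotangent.map F) := by
    intro y'
    obtain ⟨⟨x', hx'⟩, rfl⟩ := Extension.Cotangent.mk_surjective y'
    obtain ⟨x, hx, hxx'⟩ := hker x' hx'
    refine ⟨Extension.Cotangent.mk ⟨x, hx⟩, ?_⟩
    rw [Extension.Cotangent.map_mk]
    congr 1
    apply Subtype.ext
    change F.toRingHom x = x'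
    rw [hF, hxx']
  refine ⟨ρ', ?_⟩
  ext y'
  obtain ⟨y, rfl⟩ := hsurj y'
  rw [LinearMap.comp_apply, ← Extension.CotangentSpace.map_cotangentComplex]
  have h2 := LinearMap.congr_fun h1 (G.toExtension.cotangentComplex y)
  rw [LinearMap.comp_apply, LinearMap.comp_apply, LinearMap.restrictScalars_apply] at h2
  rw [h2]
  have h3 := LinearMap.congr_fun hρ y
  rw [LinearMap.comp_apply] at h3
  rw [h3, LinearMap.smul_apply, LinearMap.smul_apply, LinearMap.id_apply, LinearMap.id_apply,
    map_smul, ← map_pow, algebraMap_smul]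

end CrossBase

end

end Groth.Agent.Lib.Helper97.Rigid
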