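import Groth.Agent.Lib.Helper97.Rigid.Family
import Groth.Agent.Lib.Helper97.Rigid.Transfer
import Groth.Agent.Lib.Helper97.Rigid.Extract

/-!
# A rigid special fibre which is smoothed by a flat one-parameter family is smooth
-/

set_option autoImplicit false

namespace Groth.Agent.Lib.Helper97.Rigid

open TensorProduct Algebra CotT2

noncomputable section

universe u

theorem formallySmooth_of_rigid_of_smoothing
    {k : Type u} [Field k] [IsAlgClosed k] (B₀ : Type u) [CommRing B₀] [Algebra k B₀]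
    [Algebra.FiniteType k B₀]
    (hrigid : Subsingleton (CotT.T1 (CotT.canon k B₀) B₀))
    (A B : Type u) [CommRing A] [CommRing B] [IsDomain A] [Algebra k A] [Algebra.FiniteType k A]
    (hdim : ringKrullDim A = 1) (t : A) (ht : (Ideal.span {t}).IsMaximal)
    [Algebra A B] [Algebra.FiniteType A B] [Module.Flat A B] [Algebra k B] [IsScalarTower k A B]
    (e : (B ⧸ Ideal.span {algebraMap A B t}) ≃ₐ[k] B₀)
    (hsm : ∀ q : PrimeSpectrum B, algebraMap A B t ∉ q.asIdeal → q ∈ Algebra.smoothLocus A B) :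
    Algebra.FormallySmooth k B₀ := by
  have _ : IsNoetherianRing A := Algebra.FiniteType.isNoetherianRing k A
  have _ : Algebra.FinitePresentation A B :=
    Algebra.FinitePresentation.of_finiteType.mp inferInstance
  have _ : Algebra.FinitePresentation k B₀ :=
    Algebra.FinitePresentation.of_finiteType.mp inferInstance
  obtain ⟨n, hn⟩ := (forall_mem_smoothLocus_iff_exists_pow_smul_T1 (algebraMap A B t)).mp hsm
  let P := Algebra.Presentation.ofFinitePresentation A B
  have hfin : Module.Finite B P.toExtension.Cotangent := Extension.Cotangent.finite P.fg_ker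
  obtain ⟨ρ, hρ⟩ := exists_comp_eq_of_pow_smul_T1_eq_zero (algebraMap A B t) P (CotT.canon A B) n
    (hn P.toExtension.Cotangent)
  obtain ⟨σ, hσsurj, hσker⟩ := exists_trivialization hdim t ht e hrigid n
  let _ : Algebra B ((A ⧸ Ideal.span {t ^ (n + 1)}) ⊗[k] B₀) := σ.toRingHom.toAlgebra
  have hσalg : ∀ b, algebraMap B ((A ⧸ Ideal.span {t ^ (n + 1)}) ⊗[k] B₀) b = σ b := fun b => rfl
  have _ : IsScalarTower A B ((A ⧸ Ideal.span {t ^ (n + 1)}) ⊗[k] B₀) :=
    IsScalarTower.of_algebraMap_eq fun a => (σ.commutes a).symm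
  let G := P.toGenerators
  have hG'surj : Function.Surjective (MvPolynomial.aeval (R := A ⧸ Ideal.span {t ^ (n + 1)})
      (fun i => σ (G.val i))) := by
    intro r
    obtain ⟨b, rfl⟩ := hσsurj r
    obtain ⟨p, rfl⟩ := G.algebraMap_surjective b
    refine ⟨MvPolynomial.map (algebraMap A (A ⧸ Ideal.span {t ^ (n + 1)})) p, ?_⟩
    rw [MvPolynomial.aeval_map_algebraMap, Generators.algebraMap_apply,
      ← MvPolynomial.comp_aeval_apply]
  let G' : Generators (A ⧸ Ideal.span {t ^ (n + 1)}) ((A ⧸ Ideal.span {t ^ (n + 1)}) ⊗[k] B₀) _ :=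
    Generators.ofSurjective (fun i => σ (G.val i)) hG'surj
  have hval : ∀ i, G'.val i = algebraMap B _ (G.val i) := fun i => rfl
  have hker : ∀ x' ∈ G'.ker, ∃ x ∈ G.ker,
      MvPolynomial.map (algebraMap A (A ⧸ Ideal.span {t ^ (n + 1)})) x = x' := by
    intro x' hx'
    obtain ⟨x₁, rfl⟩ := MvPolynomial.map_surjective _ Ideal.Quotient.mk_surjective x'
    have h1 : σ (MvPolynomial.aeval G.val x₁) = 0 := by
      have h2 : algebraMap G'.Ring ((A ⧸ Ideal.span {t ^ (n + 1)}) ⊗[k] B₀)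
          (MvPolynomial.map (Ideal.Quotient.mk _) x₁) = 0 := hx'
      rw [Generators.algebraMap_apply] at h2
      rw [← h2]
      change _ = MvPolynomial.aeval (fun i => σ (G.val i))
        (MvPolynomial.map (algebraMap A (A ⧸ Ideal.span {t ^ (n + 1)})) x₁)
      rw [MvPolynomial.aeval_map_algebraMap, ← MvPolynomial.comp_aeval_apply]
    obtain ⟨b, hb⟩ := hσker _ h1
    obtain ⟨z, rfl⟩ := G.algebraMap_surjective b
    refine ⟨x₁ - MvPolynomial.C (t ^ (n + 1)) * z, ?_, ?_⟩
    · change algebraMap G.Ring B _ = 0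
      rw [map_sub, map_mul, Generators.algebraMap_apply, Generators.algebraMap_apply, hb,
        MvPolynomial.aeval_C, map_pow, Generators.algebraMap_apply, sub_self]
    · rw [map_sub, map_mul, MvPolynomial.map_C]
      have h3 : algebraMap A (A ⧸ Ideal.span {t ^ (n + 1)}) (t ^ (n + 1)) = 0 :=
        Ideal.Quotient.eq_zero_iff_mem.mpr (Ideal.mem_span_singleton_self _)
      rw [h3, map_zero, zero_mul, sub_zero]
      rfl
  obtain ⟨ρ', hρ'⟩ := exists_comp_eq_of_generators G G' hval hker (algebraMap A B t) n ρ hρ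
  have hσg : algebraMap B ((A ⧸ Ideal.span {t ^ (n + 1)}) ⊗[k] B₀) (algebraMap A B t) =
      algebraMap (A ⧸ Ideal.span {t ^ (n + 1)}) _ (Ideal.Quotient.mk _ t) := by
    rw [← IsScalarTower.algebraMap_apply, IsScalarTower.algebraMap_apply A
      (A ⧸ Ideal.span {t ^ (n + 1)})]
    rfl
  let P₀ := Algebra.Presentation.ofFinitePresentation k B₀
  let G'' := P₀.toGenerators.baseChange (A ⧸ Ideal.span {t ^ (n + 1)})
  obtain ⟨ρ'', hρ''⟩ := exists_comp_eq_of_hom _ (G'.defaultHom G'').toExtensionHom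
    (G''.defaultHom G').toExtensionHom n ρ' hρ'
  obtain ⟨ρQ, hρQ⟩ := exists_comp_eq_of_hom _
    (P₀.toGenerators.baseChangeToBaseChange (A ⧸ Ideal.span {t ^ (n + 1)}))
    (P₀.toGenerators.baseChangeFromBaseChange (A ⧸ Ideal.span {t ^ (n + 1)})) n ρ'' hρ''
  -- the coefficient functional
  have h0 : t ≠ 0 := ne_zero_of_dim t hdim ht
  have hτn : (Ideal.Quotient.mk (Ideal.span {t ^ (n + 1)}) t) ^ n ≠ 0 := by
    rw [← map_pow, Ne, Ideal.Quotient.eq_zero_iff_mem]
    exact pow_notMem_span_pow_succ t h0 ht n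
  obtain ⟨c₀, hc₀⟩ : ∃ c₀ : (A ⧸ Ideal.span {t ^ (n + 1)}) →ₗ[k] k,
      c₀ ((Ideal.Quotient.mk (Ideal.span {t ^ (n + 1)}) t) ^ n) = 1 := by
    let v := (Ideal.Quotient.mk (Ideal.span {t ^ (n + 1)}) t) ^ n
    have hinj : LinearMap.ker (LinearMap.toSpanSingleton k (A ⧸ Ideal.span {t ^ (n + 1)}) v) = ⊥ :=
      LinearMap.ker_toSpanSingleton k hτn
    obtain ⟨c, hc⟩ := LinearMap.exists_leftInverse_of_injective _ hinj
    refine ⟨c, ?_⟩
    have h1 := LinearMap.congr_fun hc 1
    rw [LinearMap.comp_apply, LinearMap.toSpanSingleton_apply, one_smul, LinearMap.id_apply] at h1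
    exact h1
  rw [hσg] at hρQ
  obtain ⟨l, hl⟩ := exists_retraction_of_baseChange P₀.toExtension (A ⧸ Ideal.span {t ^ (n + 1)})
    (Ideal.Quotient.mk _ t) n c₀ hc₀ ρQ hρQ
  have _ : Algebra.FormallySmooth k P₀.toExtension.Ring :=
    inferInstanceAs (Algebra.FormallySmooth k (MvPolynomial _ k))
  exact (Algebra.Extension.formallySmooth_iff_split_injection P₀.toExtension).mpr ⟨l, hl⟩

end

end Groth.Agent.Lib.Helper97.Rigid
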